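import Groth.Agent.FEtHom.Affine
import Groth.Agent.PurityLib.OpenPurity
import Groth.Agent.FlatSecLib.DepthTwo
import Mathlib.RingTheory.Unramified.Finite
import Mathlib.RingTheory.Kaehler.TensorProduct
/-!
A finite flat morphism which is étale outside a closed set of depth at least two is étale.
-/

set_option autoImplicit false
set_option backward.isDefEq.respectTransparency false
set_option linter.style.haveILetI false

universe u

open CategoryTheory CategoryTheory.Limits AlgebraicGeometry TensorProduct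

namespace Groth.Agent.FlatBranch

/-- If a power of `c` kills `Ω`, a power of `c` times a diagonal element exists. -/
theorem exists_elem {R B : Type u} [CommRing R] [CommRing B] [Algebra R B] [Algebra.EssFiniteType R B]
    (c : R) (hc : ∀ w : Ω[B⁄R], c • w = 0)
    (hnzd : ∀ z : B ⊗[R] B, c • z = 0 → z = 0) :
    ∃ (n : ℕ) (t : B ⊗[R] B), (∀ s, ((1 : B) ⊗ₜ[R] s - s ⊗ₜ[R] (1 : B)) * t = 0) ∧
      Algebra.TensorProduct.lmul' R t = algebraMap R B (c ^ n) := by
  let J := KaehlerDifferential.ideal R B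
  haveI : Module.Finite (B ⊗[R] B) J := Module.Finite.iff_fg.mpr (KaehlerDifferential.ideal_fg R B)
  let P := B ⊗[R] B
  let m : Module.End P J := (algebraMap R P c) • LinearMap.id
  have hrange : LinearMap.range m ≤ J • ⊤ := by
    rintro _ ⟨j, rfl⟩
    have h := hc (J.toCotangent j)
    rw [← algebraMap_smul P c (J.toCotangent j)] at h
    change J.toCotangent (algebraMap R P c • j) = 0 at h
    rw [Ideal.toCotangent_eq_zero, pow_two] at h
    exact (Submodule.mem_smul_top_iff J J _).mpr h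
  obtain ⟨p, hp, -, hco, hz⟩ :=
    LinearMap.exists_monic_and_natDegree_eq_and_coeff_mem_pow_and_aeval_eq_zero P m J hrange
  refine ⟨p.natDegree, p.eval (algebraMap R P c), fun s => ?_, ?_⟩
  · have hs : (1 : B) ⊗ₜ[R] s - s ⊗ₜ[R] (1 : B) ∈ J := by
      simp [J, KaehlerDifferential.ideal, RingHom.mem_ker]
    have h := congrArg Subtype.val (LinearMap.congr_fun hz ⟨_, hs⟩)
    rw [show m = algebraMap P (Module.End P J) (algebraMap R P c) from rfl,
      Polynomial.aeval_algebraMap_apply] at h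
    rw [mul_comm]
    simpa using h
  · rw [Polynomial.eval_eq_sum_range, Finset.sum_range_succ, map_add, map_sum, hp.coeff_natDegree, one_mul,
      ← map_pow, AlgHom.commutes, add_eq_right]
    refine Finset.sum_eq_zero fun k hk => ?_
    have hk' : p.coeff k ∈ J := Ideal.pow_le_self (by have := Finset.mem_range.mp hk; omega) (hco k)
    rw [map_mul, show Algebra.TensorProduct.lmul' R (p.coeff k) = 0 from hk', zero_mul]

theorem formallyUnramified_of_regPair {R B : Type u} [CommRing R] [CommRing B] [Algebra R B]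
    [Algebra.EssFiniteType R B] [Module.Flat R B] {x y : R} (h : PurityLib.RegPair R x y)
    (hy : ∀ r : R, y * r = 0 → r = 0)
    (hx' : ∃ k : ℕ, ∀ w : Ω[B⁄R], x ^ k • w = 0) (hy' : ∃ k : ℕ, ∀ w : Ω[B⁄R], y ^ k • w = 0) :
    Algebra.FormallyUnramified R B := by
  obtain ⟨i, hi⟩ := hx'
  obtain ⟨j, hj⟩ := hy'
  have hP : PurityLib.RegPair (B ⊗[R] B) x y := PurityLib.regPair_of_flat h
  have hB : PurityLib.RegPair B x y := PurityLib.regPair_of_flat h
  have hyreg : IsSMulRegular R y := fun a b hab => sub_eq_zero.mp (hy _ (by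
    rw [mul_sub, sub_eq_zero]; exact hab))
  have hynz : ∀ z : B ⊗[R] B, y ^ j • z = 0 → z = 0 := fun z hz =>
    ((hyreg.of_flat (S := B ⊗[R] B)).pow j) (by
      show algebraMap R _ y ^ j • z = algebraMap R _ y ^ j • 0
      rw [smul_zero, ← map_pow, smul_eq_mul, ← Algebra.smul_def]; exact hz)
  obtain ⟨n, tx, htx, htx'⟩ := exists_elem (B := B) (x ^ i) hi fun z => hP.smul_pow_eq_zero i
  obtain ⟨m, ty, hty, hty'⟩ := exists_elem (B := B) (y ^ j) hj hynz
  rw [← pow_mul] at htx' hty'
  -- the two elements agree after clearing denominators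
  have hmulr : ∀ (t : B ⊗[R] B), (∀ s, ((1 : B) ⊗ₜ[R] s - s ⊗ₜ[R] (1 : B)) * t = 0) →
      ∀ d ∈ KaehlerDifferential.ideal R B, d * t = 0 := by
    intro t ht d hd
    rw [← KaehlerDifferential.span_range_eq_ideal] at hd
    induction hd using Submodule.span_induction with
    | mem d hd => obtain ⟨s, rfl⟩ := hd; exact ht s
    | zero => simp
    | add a b _ _ ha hb => rw [add_mul, ha, hb, add_zero]
    | smul a b _ hb => rw [smul_eq_mul, mul_assoc, hb, mul_zero]
  have key : ∀ t₁ t₂ : B ⊗[R] B, (∀ s, ((1 : B) ⊗ₜ[R] s - s ⊗ₜ[R] (1 : B)) * t₁ = 0) →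
      ∀ c : R, Algebra.TensorProduct.lmul' R t₂ = algebraMap R B c → t₂ * t₁ = c • t₁ := by
    intro t₁ t₂ h₁ c hc
    have := hmulr t₁ h₁ (t₂ - algebraMap R _ c) (by
      simp [KaehlerDifferential.ideal, RingHom.mem_ker, hc])
    rwa [sub_mul, sub_eq_zero, ← Algebra.smul_def] at this
  have heq : y ^ (j * m) • tx = x ^ (i * n) • ty := by
    rw [← key tx ty htx _ hty', ← key ty tx hty _ htx', mul_comm]
  obtain ⟨t, ht⟩ := hP.exists_of_pow (i * n) (j * m) heq
  refine Algebra.FormallyUnramified.iff_exists_tensorProduct.mpr ⟨t, fun s => ?_, ?_⟩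
  · apply hP.smul_pow_eq_zero (i * n)
    rw [← mul_smul_comm, ← ht]
    exact htx s
  · refine sub_eq_zero.mp (hB.smul_pow_eq_zero (i * n) ?_)
    rw [smul_sub, ← map_smul, ← ht, htx', Algebra.smul_def, mul_one, sub_self]

theorem exists_pow_kill {R B : Type u} [CommRing R] [CommRing B] [Algebra R B] [Algebra.FiniteType R B]
    [Module.Finite R B] (h : R) [Algebra.Etale R (PurityLib.Lo h B)] :
    ∃ k : ℕ, ∀ w : Ω[B⁄R], h ^ k • w = 0 := by
  classical
  haveI : Module.Finite B Ω[B⁄R] := inferInstance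
  haveI : Module.Finite R Ω[B⁄R] := Module.Finite.trans B _
  haveI : IsLocalizedModule (Submonoid.powers (algebraMap R B h))
      (KaehlerDifferential.map R R B (PurityLib.Lo h B)) :=
    KaehlerDifferential.isLocalizedModule_map (R := R) (S := B) (T := PurityLib.Lo h B) _
  have hz : ∀ w : Ω[B⁄R], ∃ k : ℕ, h ^ k • w = 0 := fun w => by
    obtain ⟨⟨_, k, rfl⟩, hk⟩ := (IsLocalizedModule.eq_zero_iff (Submonoid.powers (algebraMap R B h))
      (KaehlerDifferential.map R R B (PurityLib.Lo h B))).mp (Subsingleton.elim (KaehlerDifferential.map R R B (PurityLib.Lo h B) w) 0)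
    exact ⟨k, by simpa [Submonoid.smul_def, ← map_pow] using hk⟩
  choose k hk using hz
  obtain ⟨s, hs⟩ := Module.Finite.fg_top (R := R) (M := Ω[B⁄R])
  refine ⟨s.sup k, fun w => ?_⟩
  have hw : w ∈ Submodule.span R (s : Set Ω[B⁄R]) := hs ▸ Submodule.mem_top
  induction hw using Submodule.span_induction with
  | mem w hw =>
    rw [← Nat.sub_add_cancel (Finset.le_sup (f := k) hw), pow_add, mul_smul, hk, smul_zero]
  | zero => simp
  | add a b _ _ ha hb => rw [smul_add, ha, hb, add_zero]
  | smul a b _ hb => rw [smul_comm, hb, smul_zero]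

theorem etale_of_flat {X Y : Scheme.{u}} [IsLocallyNoetherian X] (U : X.Opens)
    (hU : ∀ x : X, x ∉ U → (2 : ℕ∞) ≤ LocCoh.depth (X.presheaf.stalk x) (X.presheaf.stalk x))
    (π : Y ⟶ X) [IsFinite π] [Etale (pullback.snd π U.ι)] [Flat π] : Etale π := by
  haveI : Etale (π ∣_ U) := by
    rw [← pullbackRestrictIsoRestrict_hom_morphismRestrict] at *
    exact (MorphismProperty.cancel_left_of_respectsIso @Etale _ _).mp ‹_›
  haveI : LocallyOfFinitePresentation π := inferInstance
  haveI : FormallyUnramified π := by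
    rw [IsZariskiLocalAtTarget.iff_of_iSup_eq_top (P := @FormallyUnramified) _ (iSup_affineOpens_eq_top X)]
    rintro ⟨V, hV⟩
    haveI : IsNoetherianRing Γ(X, V) := IsLocallyNoetherian.component_noetherian ⟨V, hV⟩
    let W0 : Y.Opens := π ⁻¹ᵁ V
    let φ : Γ(X, V) →+* Γ(Y, W0) := (π.app V).hom
    let J := FlatSecLib.opensIdeal U V
    have hVh : ∀ h, π ⁻¹ᵁ X.basicOpen h = Y.basicOpen (φ h) := fun h => Scheme.preimage_basicOpen π h
    have het : ∀ h ∈ J, ((Y.presheaf.map (homOfLE (Y.basicOpen_le (φ h))).op).hom.comp φ).Etale := by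
      intro h hh
      have hle : X.basicOpen h ≤ U.ι.opensRange := by rw [U.opensRange_ι]; exact hh
      have hVaff : IsAffineOpen (Y.basicOpen (φ h)) := hVh h ▸ (hV.basicOpen h).preimage π
      have hle' : Y.basicOpen (φ h) ≤ (π ⁻¹ᵁ U).ι.opensRange := by
        rw [Scheme.Opens.opensRange_ι, ← hVh h]; exact Scheme.Hom.preimage_mono π hh
      have h1 : ((π ∣_ U).appLE (U.ι ⁻¹ᵁ X.basicOpen h) ((π ⁻¹ᵁ U).ι ⁻¹ᵁ Y.basicOpen (φ h)) (by
          rw [← Scheme.Hom.comp_preimage, morphismRestrict_ι, Scheme.Hom.comp_preimage, hVh h])).hom.Etale :=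
        HasRingHomProperty.appLE @Etale (π ∣_ U) inferInstance
          ⟨_, (hV.basicOpen h).preimage_of_isOpenImmersion U.ι hle⟩
          ⟨_, hVaff.preimage_of_isOpenImmersion (π ⁻¹ᵁ U).ι hle'⟩ _
      rw [morphismRestrict_appLE] at h1
      have h2 : (π.appLE (X.basicOpen h) (Y.basicOpen (φ h)) (hVh h).ge).hom.Etale :=
        (Scheme.Hom.appLE_congr (f := π) _
          (by rw [Scheme.Hom.image_preimage_eq_opensRange_inf]; exact inf_eq_right.mpr hle)
          (by rw [Scheme.Hom.image_preimage_eq_opensRange_inf]; exact inf_eq_right.mpr hle')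
          (fun f => f.hom.Etale)).mp h1
      haveI := hV.isLocalization_basicOpen h
      have h3 : ((Y.presheaf.map (homOfLE (Y.basicOpen_le (φ h))).op).hom.comp φ) =
          (π.appLE (X.basicOpen h) (Y.basicOpen (φ h)) (hVh h).ge).hom.comp (algebraMap Γ(X, V) Γ(X, X.basicOpen h)) := by
        show (π.app V ≫ Y.presheaf.map _).hom = (X.presheaf.map _ ≫ π.appLE _ _ _).hom
        rw [Scheme.Hom.map_appLE]
        rfl
      rw [h3]
      exact RingHom.Etale.stableUnderComposition _ _ (RingHom.etale_algebraMap.mpr (Algebra.Etale.of_isLocalizationAway h)) h2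
    obtain ⟨x, hxJ, y, hyJ, hxn, hyn, hxy⟩ := FlatSecLib.exists_pair U hU hV
    have hxyR : PurityLib.RegPair Γ(X, V) x y :=
      ⟨fun m hm => (mul_right_mem_nonZeroDivisors_eq_zero_iff hxn).1 (by rw [mul_comm]; exact hm),
        fun m n hmn => by
          obtain ⟨w, hw⟩ := Ideal.mem_span_singleton'.1 (hxy m (Ideal.mem_span_singleton'.2 ⟨n, by
            rw [mul_comm]; exact hmn.symm⟩))
          exact ⟨w, by rw [smul_eq_mul, ← hw, mul_comm]⟩⟩
    letI := φ.toAlgebra
    haveI : Module.Finite Γ(X, V) Γ(Y, W0) := π.finite_app _ hV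
    haveI : Module.Flat Γ(X, V) Γ(Y, W0) := by
      have h1 := Flat.flat_appLE π hV (hV.preimage π) le_rfl
      rw [← Scheme.Hom.app_eq_appLE] at h1
      exact h1
    have hc : IsCompact (W0 : Set Y) := (hV.preimage π).isCompact
    have hq : IsQuasiSeparated (W0 : Set Y) := (hV.preimage π).isQuasiSeparated
    haveI := PurityLib.etale_lo_on φ hc hq x (het x hxJ)
    haveI := PurityLib.etale_lo_on φ hc hq y (het y hyJ)
    have hun : Algebra.FormallyUnramified Γ(X, V) Γ(Y, W0) :=
      formallyUnramified_of_regPair hxyR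
        (fun r hr => (mul_right_mem_nonZeroDivisors_eq_zero_iff hyn).1 (by rw [mul_comm]; exact hr))
        (exists_pow_kill (B := Γ(Y, W0)) x) (exists_pow_kill (B := Γ(Y, W0)) y)
    haveI : IsAffine (V : Scheme.{u}) := hV
    haveI : IsAffine ((π ⁻¹ᵁ V : Y.Opens) : Scheme.{u}) := hV.preimage π
    rw [HasRingHomProperty.iff_of_isAffine (P := @FormallyUnramified)]
    have hres : RingHom.FormallyUnramified φ := hun
    rw [morphismRestrict_appTop, Scheme.Hom.app_eq_appLE, Scheme.Hom.appLE_map]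
    refine (Scheme.Hom.appLE_congr (f := π) _ (V' := π ⁻¹ᵁ V) V.ι_image_top ?_
      (fun f => f.hom.FormallyUnramified)).mpr ?_
    · simp [Scheme.Opens.ι_image_top]
    rw [← Scheme.Hom.app_eq_appLE]
    exact hres
  exact (FEtHom.etale_iff _).mpr ⟨inferInstance, FEtHom.of_flat_unramified _⟩

end Groth.Agent.FlatBranch
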